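import Cfsg.Agent.H678.Codeg
import Cfsg.Agent.CharactersDeep.IndFun

/-!
# Constituents of characters

* `exists_add_of_classInner_ne_zero` : an irreducible constituent splits off;
* `eq_of_deg_le` : a constituent of at least the same degree is everything;
* `indFun_one` : the degree of an induced function.
-/

set_option autoImplicit false
set_option linter.unusedSectionVars false

namespace Cfsg.Agent.H678.Constit

open Cfsg Cfsg.Agent.Characters Cfsg.Agent.H686.CharKit

universe u

variable {G : Type u} [Group G]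

/-- An irreducible constituent splits off. -/
theorem exists_add_of_classInner_ne_zero [Fintype G] {α : G → ℂ} (hα : IsCharacter G α)
    {χ : G → ℂ} (hχ : IsIrrCharacter G χ) (h : classInner α χ ≠ 0) :
    ∃ β : G → ℂ, IsCharacter G β ∧ α = χ + β := by
  classical
  have : Finite (IrrCharacter G) := Core.finite_irr
  have : Fintype (IrrCharacter G) := Fintype.ofFinite _
  obtain ⟨m, hm⟩ := Core.isCharacter_iff.1 hα
  have h1 : m ⟨χ, hχ⟩ ≠ 0 := by
    intro h0
    apply h
    have h2 := Core.classInner_sum_nsmul_irr m (⟨χ, hχ⟩ : IrrCharacter G)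
    rw [← hm, h0] at h2
    simpa using h2
  refine ⟨∑ ψ : IrrCharacter G, (m ψ - if ψ = ⟨χ, hχ⟩ then 1 else 0) • (ψ : G → ℂ),
    Core.isCharacter_iff.2 ⟨_, rfl⟩, ?_⟩
  have h3 : χ = ∑ ψ : IrrCharacter G, (if ψ = ⟨χ, hχ⟩ then 1 else 0) • (ψ : G → ℂ) := by
    simp
  conv_rhs => enter [1]; rw [h3]
  rw [← Finset.sum_add_distrib]
  conv_lhs => rw [hm]
  refine Finset.sum_congr rfl fun ψ _ => ?_
  rw [← add_smul]
  congr 1
  split_ifs with hψ
  · subst hψ; omega
  · omega

/-- A character of degree `0` is zero. -/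
theorem eq_zero_of_apply_one {α : G → ℂ} (hα : IsCharacter G α) (h : α 1 = 0) : α = 0 := by
  obtain ⟨n, ρ, rfl⟩ := Core.isCharacter_def.1 hα
  rw [Representation.char_one, Module.finrank_fin_fun] at h
  have hn : n = 0 := by exact_mod_cast h
  subst hn
  funext g
  rw [Representation.character, Subsingleton.elim (ρ g) 0, map_zero]
  rfl

/-- The degree of an induced function. -/
theorem indFun_one [Fintype G] (H : Subgroup G) (θ : H → ℂ) :
    indFun H θ 1 = (H.index : ℂ) * θ 1 := by
  rw [CharactersDeep.IndFun.indFun_def]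
  have h1 : ∀ x : G, extendByZero H θ (x⁻¹ * 1 * x) = θ 1 := by
    intro x
    rw [mul_one, inv_mul_cancel, CharactersDeep.IndFun.extendByZero_mem H θ H.one_mem]
    rfl
  simp_rw [h1]
  rw [Finset.sum_const, nsmul_eq_mul, Finset.card_univ, ← Nat.card_eq_fintype_card,
    ← H.card_mul_index, Nat.cast_mul]
  have : (Nat.card H : ℂ) ≠ 0 := by exact_mod_cast Nat.card_pos.ne'
  field_simp

theorem exists_constituent [Fintype G] {α : G → ℂ} (hα : IsCharacter G α) (h : α ≠ 0) :
    ∃ χ : G → ℂ, IsIrrCharacter G χ ∧ classInner α χ ≠ 0 := by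
  by_contra hno
  push Not at hno
  exact h (Core.classFunction_eq_zero (Core.isCharacter_isClassFunction hα) hno)

/-- A character is the sum of its constituents with multiplicity: the degree formula. -/
theorem exists_decomp [Finite G] [Fintype (IrrCharacter G)] {α : G → ℂ} (hα : IsCharacter G α) :
    ∃ m : IrrCharacter G → ℕ, α = ∑ ψ : IrrCharacter G, m ψ • (ψ : G → ℂ) ∧
      charDegree α = ∑ ψ : IrrCharacter G, m ψ * charDegree (ψ : G → ℂ) := by
  obtain ⟨m, hm⟩ := Core.isCharacter_iff.1 hα
  refine ⟨m, hm, ?_⟩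
  have h1 : (charDegree α : ℂ) = ((∑ ψ : IrrCharacter G, m ψ * charDegree (ψ : G → ℂ) : ℕ) : ℂ) := by
    rw [charDegree_cast hα]
    conv_lhs => rw [hm]
    rw [Finset.sum_apply, Nat.cast_sum]
    refine Finset.sum_congr rfl fun ψ _ => ?_
    rw [Pi.smul_apply, nsmul_eq_mul, Nat.cast_mul, charDegree_irr]
  exact_mod_cast h1

end Cfsg.Agent.H678.Constit
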