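import Cfsg.Agent.H678.Quasi
import Cfsg.Agent.H678.Constit
import Cfsg.Agent.S0887
import Cfsg.Agent.S0165
import Cfsg.Agent.SignalizersComponents.PConstrained

/-!
# Codegrees and subnormal subgroups

* `subnormal_ratio` : for `θ` under `χ` on a subnormal subgroup `H`, the number `|H| / θ(1)` divides
  `|G| / χ(1)`;
* `normal_le_ker` : if `|G| = p ^ k χ(1)` then the normal `p'`-subgroups are in the kernel of `χ`;
* `p_constrained` : S4800, given FACT A.
-/

set_option autoImplicit false
set_option linter.unusedSectionVars false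

namespace Cfsg.Agent.H678.Subnormal

open Cfsg Cfsg.Agent.Characters Cfsg.Agent.H686.CharKit Cfsg.Agent.H678.Codeg Cfsg.Agent.H678.Constit

universe u

variable {G : Type u} [Group G]

theorem charDegree_comp {H : Type*} [Group H] (f : H →* G) (χ : G → ℂ) :
    charDegree (χ ∘ f) = charDegree χ := by
  unfold charDegree
  rw [Function.comp_apply, map_one]

theorem classInner_comp_equiv {H : Type*} [Group H] [Fintype G] [Fintype H] (e : H ≃* G)
    (φ ψ : G → ℂ) : classInner (φ ∘ e) (ψ ∘ e) = classInner φ ψ :=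
  Clifford.classInner_comp_mulEquiv e φ ψ

/-- For `θ` under `χ` on a subnormal subgroup `H`, `|H| / θ(1)` divides `|G| / χ(1)`. -/
theorem subnormal_ratio [Finite G] (χ : G → ℂ) (hχ : IsIrrCharacter G χ) (H : Subgroup G)
    (hH : H.IsSubnormal) : ∀ (_ : Fintype H) (θ : H → ℂ), IsIrrCharacter H θ →
      classInner (fun h : H => χ h) θ ≠ 0 →
      ∃ b : ℕ, Nat.card G * charDegree θ = b * (Nat.card H * charDegree χ) := by
  classical
  have hfG : Fintype G := Fintype.ofFinite G
  induction hH with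
  | top =>
    intro _ θ hθ hne
    have h1 : IsIrrCharacter (⊤ : Subgroup G) (χ ∘ (⊤ : Subgroup G).subtype) :=
      Core.isIrr_comp _ (fun g => ⟨⟨g, trivial⟩, rfl⟩) hχ
    have h2 : (χ ∘ (⊤ : Subgroup G).subtype) = θ := by
      by_contra h
      exact hne (Core.classInner_irr_ne h1 hθ h)
    refine ⟨1, ?_⟩
    rw [← h2, charDegree_comp, one_mul, Nat.card_congr Subgroup.topEquiv.toEquiv]
  | step H K hle hK hN ih =>
    intro hfH θ hθ hne
    have hfK : Fintype K := Fintype.ofFinite K
    have hfH' : Fintype (H.subgroupOf K) := Fintype.ofFinite _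
    have : Finite (IrrCharacter K) := Core.finite_irr
    have : Fintype (IrrCharacter K) := Fintype.ofFinite _
    let e : H.subgroupOf K ≃* H := Subgroup.subgroupOfEquivOfLe hle
    have hθ' : IsIrrCharacter (H.subgroupOf K) (θ ∘ e) :=
      Core.isIrr_comp e.toMonoidHom e.surjective hθ
    have hres : IsCharacter K (χ ∘ K.subtype) := Core.isCharacter_comp _ (Core.isIrr_isCharacter hχ)
    obtain ⟨m, hm, -⟩ := exists_decomp hres
    have h1 : classInner (fun n : H.subgroupOf K => χ ((n : K) : G)) (θ ∘ e) ≠ 0 := by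
      have h2 : (fun n : H.subgroupOf K => χ ((n : K) : G)) = (fun h : H => χ h) ∘ e := by
        funext n; rfl
      rw [h2, classInner_comp_equiv]
      exact hne
    obtain ⟨ψ, hψ0, hψ⟩ : ∃ ψ : IrrCharacter K, m ψ ≠ 0 ∧
        classInner (fun n : H.subgroupOf K => (ψ : K → ℂ) n) (θ ∘ e) ≠ 0 := by
      by_contra hno
      push Not at hno
      apply h1
      have h2 : (fun n : H.subgroupOf K => χ ((n : K) : G)) =
          ∑ ψ : IrrCharacter K, (m ψ : ℂ) • (fun n : H.subgroupOf K => (ψ : K → ℂ) n) := by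
        funext n
        have h3 := congrFun hm (n : K)
        rw [Finset.sum_apply] at h3 ⊢
        rw [show χ ((n : K) : G) = (χ ∘ K.subtype) (n : K) from rfl, h3]
        refine Finset.sum_congr rfl fun ψ _ => ?_
        simp
      rw [h2, Core.classInner_sum_left]
      refine Finset.sum_eq_zero fun ψ _ => ?_
      rw [Core.classInner_smul_left]
      by_cases h0 : m ψ = 0
      · rw [h0]; simp
      · rw [hno ψ h0, mul_zero]
    have h2 : classInner (fun h : K => χ h) (ψ : K → ℂ) ≠ 0 := by
      have h3 := Core.classInner_sum_nsmul_irr m ψ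
      rw [← hm] at h3
      have h4 : classInner (fun h : K => χ h) (ψ : K → ℂ) = (m ψ : ℂ) := h3
      rw [h4]
      exact_mod_cast hψ0
    obtain ⟨b, hb⟩ := ih hfK ψ ψ.2 h2
    have h3 : charDegree (θ ∘ e) = charDegree θ := charDegree_comp e.toMonoidHom θ
    obtain ⟨⟨r, hr⟩, ⟨s, hs⟩⟩ := S0887.result (H.subgroupOf K) (ψ : K → ℂ) ψ.2 (θ ∘ e) hθ' hψ
      (charDegree (ψ : K → ℂ)) (charDegree θ) (charDegree_irr ψ).symm
      (by rw [← h3]; exact (charDegree_irr (⟨θ ∘ e, hθ'⟩ : IrrCharacter _)).symm)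
    have hθpos : 0 < charDegree θ := charDegree_pos (⟨θ, hθ⟩ : IrrCharacter H)
    have hψpos : 0 < charDegree (ψ : K → ℂ) := charDegree_pos ψ
    rw [hr, Nat.mul_div_cancel_left _ hθpos] at hs
    have hrpos : 0 < r := by
      rcases Nat.eq_zero_or_pos r with h | h
      · rw [h, mul_zero] at hr; omega
      · exact h
    have hcK : Nat.card K = Nat.card H * (r * s) := by
      rw [← hs, ← (H.subgroupOf K).card_mul_index, Nat.card_congr e.toEquiv]
    refine ⟨b * s, ?_⟩
    apply Nat.eq_of_mul_eq_mul_left hrpos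
    calc r * (Nat.card G * charDegree θ) = Nat.card G * (charDegree θ * r) := by ring
      _ = b * (Nat.card K * charDegree χ) := by rw [← hr, hb]
      _ = r * (b * s * (Nat.card H * charDegree χ)) := by rw [hcK]; ring

/-- If the sum of an irreducible representation over a normal subgroup is nonzero, the subgroup
acts trivially. -/
theorem le_chKer_of_sum_ne_zero [Finite G] (χ : IrrCharacter G) (N : Subgroup G) [N.Normal]
    [Fintype N] (h : ∑ m : N, (χ : G → ℂ) m ≠ 0) : N ≤ chKer χ := by
  classical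
  obtain ⟨ρ, hρ, hχ⟩ := exists_rep χ
  have hcomm : ∀ g, (∑ m : N, ρ (m : G)) * ρ g = ρ g * (∑ m : N, ρ (m : G)) := by
    intro g
    rw [Finset.sum_mul, Finset.mul_sum]
    refine Fintype.sum_equiv (MulAut.conjNormal g⁻¹ : MulAut N).toEquiv _ _ fun m => ?_
    rw [← map_mul, ← map_mul]
    congr 1
    simp [mul_assoc]
  obtain ⟨c, hc⟩ := Central.exists_smul_of_comm ρ hρ _ hcomm
  have hc0 : c ≠ 0 := by
    rintro rfl
    apply h
    have h1 : LinearMap.trace ℂ _ (∑ m : N, ρ (m : G)) = 0 := by rw [hc, zero_smul, map_zero]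
    rw [map_sum] at h1
    rw [← h1]
    exact Finset.sum_congr rfl fun m _ => (congrFun hχ (m : G)).symm
  intro x hx
  have h1 : ρ x * (∑ m : N, ρ (m : G)) = ∑ m : N, ρ (m : G) := by
    rw [Finset.mul_sum]
    refine Fintype.sum_equiv (Equiv.mulLeft (⟨x, hx⟩ : N)) _ _ fun m => ?_
    rw [← map_mul]
    rfl
  rw [hc] at h1
  have h2 : ρ x = 1 := by
    have h3 : c • ρ x = c • (1 : Module.End ℂ _) := by
      rw [← h1]
      simp
    exact smul_right_injective _ hc0 h3
  rw [mem_chKer, ← hχ, Representation.character, Representation.character, h2, map_one ρ]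

/-- If `|G| = p ^ k χ(1)`, the normal `p'`-subgroups lie in the kernel of `χ`. -/
theorem normal_le_ker [Finite G] {p k : ℕ} (χ : IrrCharacter G)
    (hk : Nat.card G = p ^ k * charDegree (χ : G → ℂ)) (N : Subgroup G) [N.Normal]
    (hN : (Nat.card N).Coprime p) : N ≤ chKer χ := by
  classical
  have : Fintype N := Fintype.ofFinite N
  apply le_chKer_of_sum_ne_zero χ N
  have h0 : ∀ m : N, m ≠ 1 → (χ : G → ℂ) m = 0 := by
    intro m hm
    obtain ⟨ρ, hρ, hχ⟩ := exists_rep χ
    have hm' : orderOf (m : G) ≠ 1 := by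
      rw [Ne, orderOf_eq_one_iff]
      exact fun h => hm (Subtype.ext h)
    obtain ⟨q, hq, hqd⟩ := Nat.exists_prime_and_dvd hm'
    have hqN : q ∣ Nat.card N := by
      refine hqd.trans ?_
      rw [Subgroup.orderOf_coe]
      exact orderOf_dvd_natCard m
    have hqp : Nat.Coprime q p := Nat.Coprime.coprime_dvd_left hqN hN
    have := hρ
    rw [← hχ]
    refine S0165.result ρ q ((Nat.card G).factorization q) hq (Nat.ordProj_dvd _ _) ?_ ?_ _ hqd
    · exact Nat.pow_succ_factorization_not_dvd Nat.card_pos.ne' hq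
    · rw [Module.finrank_fin_fun]
      have h1 : q ^ (Nat.card G).factorization q ∣ p ^ k * charDegree (χ : G → ℂ) := by
        rw [← hk]; exact Nat.ordProj_dvd _ _
      exact (Nat.Coprime.pow _ _ hqp).dvd_of_dvd_mul_left h1
  rw [Finset.sum_eq_single (1 : N) (fun m _ hm => h0 m hm) (fun h => absurd (Finset.mem_univ _) h)]
  exact Core.isIrr_apply_one_ne_zero χ.2

/-- S4800 given FACT A for the simple quotients of the components. -/
theorem p_constrained [Finite G] {p k : ℕ} [hp : Fact p.Prime]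
    (hA : ∀ L : Subgroup G, IsQuasisimple L → Good (Nat.card (L ⧸ Subgroup.center L)))
    (χ : IrrCharacter G) (hfaith : ∀ g : G, (χ : G → ℂ) g = (χ : G → ℂ) 1 → g = 1)
    (hk : Nat.card G = p ^ k * charDegree (χ : G → ℂ)) :
    pPrimeCore p G = ⊥ ∧
      Subgroup.centralizer ((pCore p G : Subgroup G) : Set G) ≤ pCore p G := by
  classical
  have hfG : Fintype G := Fintype.ofFinite G
  have hker : chKer χ = ⊥ := by
    rw [eq_bot_iff]
    intro g hg
    exact Subgroup.mem_bot.2 (hfaith g hg)
  have hO : pPrimeCore p G = ⊥ := by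
    rw [eq_bot_iff]
    refine sSup_le fun N hN => ?_
    have := hN.1
    rw [← hker]
    exact normal_le_ker χ hk N hN.2
  refine ⟨hO, ?_⟩
  rw [SignalizersComponents.PConstrained.centralizer_pCore_le_iff_layer_eq_bot p hO]
  rw [eq_bot_iff]
  refine sSup_le fun L hL => ?_
  exfalso
  have hfL : Fintype L := Fintype.ofFinite L
  have : Finite (IrrCharacter L) := Core.finite_irr
  have : Fintype (IrrCharacter L) := Fintype.ofFinite _
  have hq := hL.2
  have hres : IsCharacter L ((χ : G → ℂ) ∘ L.subtype) :=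
    Core.isCharacter_comp _ (Core.isIrr_isCharacter χ.2)
  obtain ⟨m, hm, -⟩ := exists_decomp hres
  obtain ⟨θ, hθ0, hθ1⟩ : ∃ θ : IrrCharacter L, m θ ≠ 0 ∧ (θ : L → ℂ) ≠ 1 := by
    by_contra hno
    push Not at hno
    have h1 : ∀ x : L, (x : G) = 1 := by
      intro x
      apply hfaith
      have h2 : ∀ y : L, (χ : G → ℂ) y = ∑ θ : IrrCharacter L, (m θ : ℂ) := by
        intro y
        have h3 := congrFun hm y
        rw [Finset.sum_apply] at h3
        rw [show (χ : G → ℂ) y = ((χ : G → ℂ) ∘ L.subtype) y from rfl, h3]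
        refine Finset.sum_congr rfl fun θ _ => ?_
        by_cases h0 : m θ = 0
        · rw [h0]; simp
        · rw [hno θ h0]; simp
      rw [h2 x, ← h2 1]
      rfl
    have h2 : Subsingleton L := ⟨fun a b => Subtype.ext ((h1 a).trans (h1 b).symm)⟩
    have h3 : Subsingleton (L ⧸ Subgroup.center L) :=
      (QuotientGroup.mk_surjective (s := Subgroup.center L)).subsingleton
    have := hq.2
    exact not_nontrivial _ this.toNontrivial
  have hin : classInner (fun h : L => (χ : G → ℂ) h) (θ : L → ℂ) ≠ 0 := by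
    have h3 := Core.classInner_sum_nsmul_irr m θ
    rw [← hm] at h3
    have h4 : classInner (fun h : L => (χ : G → ℂ) h) (θ : L → ℂ) = (m θ : ℂ) := h3
    rw [h4]
    exact_mod_cast hθ0
  obtain ⟨b, hb⟩ := subnormal_ratio (χ : G → ℂ) χ.2 L hL.1 hfL θ θ.2 hin
  obtain ⟨a, ha⟩ := charDegree_dvd_card θ
  have hχpos := charDegree_pos χ
  have hθpos := charDegree_pos θ
  have hab : p ^ k = b * a := by
    rw [hk, ha] at hb
    have h5 : charDegree (χ : G → ℂ) * charDegree (θ : L → ℂ) * p ^ k =
        charDegree (χ : G → ℂ) * charDegree (θ : L → ℂ) * (b * a) := by linarith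
    exact Nat.eq_of_mul_eq_mul_left (Nat.mul_pos hχpos hθpos) h5
  have hc := codeg_mul θ
  set c := Nat.card L / (Nat.card {g : L // (θ : L → ℂ) g = (θ : L → ℂ) 1} *
    charDegree (θ : L → ℂ)) with hcdef
  have hca : c ∣ p ^ k := by
    refine dvd_trans ?_ (Dvd.intro_left b hab.symm)
    have h5 : charDegree (θ : L → ℂ) * (c * Nat.card {g : L // (θ : L → ℂ) g = (θ : L → ℂ) 1}) =
        charDegree (θ : L → ℂ) * a := by
      rw [← ha, ← hc]
      ring
    exact ⟨_, (Nat.eq_of_mul_eq_mul_left hθpos h5).symm⟩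
  obtain ⟨i, -, hi⟩ := (Nat.dvd_prime_pow hp.out).1 hca
  have hi0 : i ≠ 0 := by
    rintro rfl
    rw [pow_zero] at hi
    have h5 := codeg_mul_degree θ
    rw [← hcdef, hi, one_mul] at h5
    have h6 := sq_charDegree_le_index_center θ
    have hK : chKer θ ≤ Subgroup.center L := by
      rcases Lib.ComponentSolvable.quasisimple_normal_cases hq (chKer_normal θ) with h | h
      · exact absurd ((chKer_eq_top_iff θ).1 h) hθ1
      · exact h
    have h7 : (Subgroup.center L).index ≤ (chKer θ).index :=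
      Nat.le_of_dvd (Nat.pos_of_ne_zero Subgroup.index_ne_zero_of_finite)
        (Subgroup.index_dvd_of_le hK)
    have h8 : charDegree (θ : L → ℂ) ^ 2 ≤ charDegree (θ : L → ℂ) := by
      rw [h5] at *
      omega
    have h9 : charDegree (θ : L → ℂ) = 1 := by nlinarith
    rw [h9] at h5
    exact hθ1 ((chKer_eq_top_iff θ).1 (Subgroup.index_eq_one.1 h5.symm))
  refine Quasi.not_isPrimePow hq (hA L hq) θ hθ1 ?_
  rw [← hcdef, hi]
  exact hp.out.isPrimePow.pow hi0

end Cfsg.Agent.H678.Subnormal
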