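import Cfsg.Agent.H678.SuzDegs
import Cfsg.Agent.OddCyclic.ClaimC.SzIso
import Cfsg.Prelude.Def_DegreeGraph

/-!
# The character degree graph of the Suzuki groups
-/

set_option autoImplicit false

open Cfsg

namespace Cfsg.Agent.H678.SuzGraph

universe u v

theorem charDegrees_congr {G : Type u} {H : Type v} [Group G] [Group H] (e : G ≃* H) :
    charDegrees G = charDegrees H := by
  have key : ∀ {G : Type u} {H : Type v} [Group G] [Group H] (_ : G ≃* H), charDegrees H ⊆ charDegrees G := by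
    intro G H _ _ e d hd
    obtain ⟨χ, hχ⟩ := hd
    refine ⟨⟨(χ : H → ℂ) ∘ e.toMonoidHom, Characters.Core.isIrr_comp e.toMonoidHom e.surjective χ.2⟩, ?_⟩
    rw [← hχ]
    show charDegree ((χ : H → ℂ) ∘ e.toMonoidHom) = _
    unfold charDegree
    rw [Function.comp_apply, map_one]
  have key' : ∀ {G : Type v} {H : Type u} [Group G] [Group H] (_ : G ≃* H), charDegrees H ⊆ charDegrees G := by
    intro G H _ _ e d hd
    obtain ⟨χ, hχ⟩ := hd
    refine ⟨⟨(χ : H → ℂ) ∘ e.toMonoidHom, Characters.Core.isIrr_comp e.toMonoidHom e.surjective χ.2⟩, ?_⟩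
    rw [← hχ]
    show charDegree ((χ : H → ℂ) ∘ e.toMonoidHom) = _
    unfold charDegree
    rw [Function.comp_apply, map_one]
  exact Set.Subset.antisymm (key' e.symm) (key e)

/-- The degrees of `Sz(q)`, `q = 2 ^ (2 m + 1)`, `k = 2 ^ (m - 1)`. -/
theorem mem_charDegrees {F : Type u} [Field F] [Fintype F] {m : ℕ} (hm : 1 ≤ m)
    (hF : Fintype.card F = 2 ^ (2 * m + 1)) {S : Type v} [Group S]
    (hS : Nonempty (S ≃* ↥(Lie.Sz F (2 ^ (m + 1))))) (k t a b : ℕ) (hk : k = 2 ^ (m - 1))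
    (ht : t + 1 = 8 * k ^ 2) (ha : a = 8 * k ^ 2 + 4 * k + 1) (hb : b + 4 * k = 8 * k ^ 2 + 1) (d : ℕ) :
    d ∈ charDegrees S ↔ d = 1 ∨ d = 64 * k ^ 4 ∨ d = 64 * k ^ 4 + 1 ∨ d = t * a ∨ d = t * b ∨ d = t * (2 * k) := by
  obtain ⟨e⟩ := hS
  obtain ⟨e'⟩ := OddCyclic.ClaimC.SzIso.iso hm hF
  rw [charDegrees_congr (e.trans e'.symm)]
  have h := SuzDegs.degs hm hF d
  rw [← hk] at h
  have htz : (t : ℤ) = 8 * k ^ 2 - 1 := by
    have : ((t + 1 : ℕ) : ℤ) = ((8 * k ^ 2 : ℕ) : ℤ) := by rw [ht]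
    push_cast at this
    linarith
  have haz : (a : ℤ) = 8 * k ^ 2 + 4 * k + 1 := by rw [ha]; push_cast; ring
  have hbz : (b : ℤ) = 8 * k ^ 2 - 4 * k + 1 := by
    have : ((b + 4 * k : ℕ) : ℤ) = ((8 * k ^ 2 + 1 : ℕ) : ℤ) := by rw [hb]
    push_cast at this
    linarith
  rw [← htz, ← haz, ← hbz] at h
  refine h.trans ?_
  constructor
  · rintro (h | h | h | h | h | h)
    · left; exact_mod_cast h
    · right; left; exact_mod_cast h
    · right; right; left; exact_mod_cast h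
    · right; right; right; left; exact_mod_cast h
    · right; right; right; right; left; exact_mod_cast h
    · right; right; right; right; right; exact_mod_cast h
  · rintro (h | h | h | h | h | h)
    · left; exact_mod_cast h
    · right; left; exact_mod_cast h
    · right; right; left; exact_mod_cast h
    · right; right; right; left; exact_mod_cast h
    · right; right; right; right; left; exact_mod_cast h
    · right; right; right; right; right; exact_mod_cast h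

theorem prime_dvd_two_pow {p n : ℕ} (hp : p.Prime) (h : p ∣ 2 ^ n) : p = 2 :=
  (Nat.prime_dvd_prime_iff_eq hp Nat.prime_two).1 (hp.dvd_of_dvd_pow h)

theorem main {F : Type u} [Field F] [Fintype F] {m : ℕ} (hm : 1 ≤ m) {q : ℕ} (hq : Fintype.card F = q)
    (hqm : q = 2 ^ (2 * m + 1)) {S : Type v} [Group S] (hS : Nonempty (S ≃* ↥(Lie.Sz F (2 ^ (m + 1))))) :
    degreePrimes S = {r : ℕ | r.Prime ∧ (r = 2 ∨ r ∣ (q - 1) * (q ^ 2 + 1))} ∧
      ∀ r s : ℕ, (degreeGraph S).Adj r s ↔ (r ≠ s ∧ r.Prime ∧ s.Prime ∧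
        ((r ∣ (q - 1) * (q ^ 2 + 1) ∧ s ∣ (q - 1) * (q ^ 2 + 1)) ∨ (r = 2 ∧ s ∣ q - 1) ∨
          (s = 2 ∧ r ∣ q - 1))) := by
  obtain ⟨n, rfl⟩ : ∃ n, m = n + 1 := ⟨m - 1, by omega⟩
  obtain ⟨k, hk⟩ : ∃ k, k = 2 ^ n := ⟨_, rfl⟩
  have hk1 : 1 ≤ k := hk ▸ Nat.one_le_two_pow
  have hqk : q = 8 * k ^ 2 := by
    rw [hqm, hk, ← pow_mul, show (8 : ℕ) = 2 ^ 3 by norm_num, ← pow_add]
    congr 1
    ring
  have hk2 : 1 ≤ k ^ 2 := Nat.one_le_pow _ _ hk1
  have hkk : k ≤ k ^ 2 := by nlinarith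
  obtain ⟨t, ht⟩ : ∃ t, t + 1 = 8 * k ^ 2 := ⟨8 * k ^ 2 - 1, by omega⟩
  obtain ⟨a, ha⟩ : ∃ a, a = 8 * k ^ 2 + 4 * k + 1 := ⟨_, rfl⟩
  obtain ⟨b, hb⟩ : ∃ b, b + 4 * k = 8 * k ^ 2 + 1 := ⟨8 * k ^ 2 + 1 - 4 * k, by omega⟩
  have hdeg := mem_charDegrees hm (hq.trans hqm) hS k t a b (by rw [hk]; rfl) ht ha hb
  have hqt : q - 1 = t := by omega
  have hab : q ^ 2 + 1 = a * b := by
    have h1 : a * (b + 4 * k) = a * (8 * k ^ 2 + 1) := by rw [hb]
    have h2 : a * (4 * k) + (q ^ 2 + 1) = a * (8 * k ^ 2 + 1) := by rw [ha, hqk]; ring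
    have h3 : a * (b + 4 * k) = a * (4 * k) + a * b := by ring
    omega
  have hq2 : q ^ 2 = 64 * k ^ 4 := by rw [hqk]; ring
  have hq2' : q ^ 2 = 2 ^ (2 * (2 * (n + 1) + 1)) := by rw [hqm, ← pow_mul]; congr 1; ring
  rw [← hq2] at hdeg
  have h2k : ∀ p : ℕ, p.Prime → p ∣ 2 * k → p = 2 := by
    intro p hp h
    rw [hk, ← pow_succ'] at h
    exact prime_dvd_two_pow hp h
  rw [hqt, hab]
  refine ⟨?_, ?_⟩
  · ext r
    constructor
    · rintro ⟨hr, d, hd, hrd⟩
      refine ⟨hr, ?_⟩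
      rcases (hdeg d).1 hd with rfl | rfl | rfl | rfl | rfl | rfl
      · exact absurd hrd hr.not_dvd_one
      · left
        rw [hq2'] at hrd
        exact prime_dvd_two_pow hr hrd
      · right
        rw [hab] at hrd
        exact dvd_mul_of_dvd_right hrd _
      · right
        exact hrd.trans (mul_dvd_mul_left _ (dvd_mul_right _ _))
      · right
        exact hrd.trans (mul_dvd_mul_left _ (dvd_mul_left _ _))
      · rcases (Nat.Prime.dvd_mul hr).1 hrd with h | h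
        · right
          exact dvd_mul_of_dvd_left h _
        · left
          exact h2k r hr h
    · rintro ⟨hr, h | h⟩
      · refine ⟨hr, q ^ 2, (hdeg _).2 (Or.inr (Or.inl rfl)), ?_⟩
        rw [h, hq2']
        exact dvd_pow_self _ (by omega)
      · rcases (Nat.Prime.dvd_mul hr).1 h with h | h
        · exact ⟨hr, t * a, (hdeg _).2 (by tauto), dvd_mul_of_dvd_left h _⟩
        · exact ⟨hr, q ^ 2 + 1, (hdeg _).2 (by tauto), by rw [hab]; exact h⟩
  · intro r s
    constructor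
    · rintro ⟨hrs, hr, hs, d, hd, hrd⟩
      refine ⟨hrs, hr, hs, ?_⟩
      have h1 : r ∣ d := (dvd_mul_right _ _).trans hrd
      have h2 : s ∣ d := (dvd_mul_left _ _).trans hrd
      rcases (hdeg d).1 hd with rfl | rfl | rfl | rfl | rfl | rfl
      · exact absurd h1 hr.not_dvd_one
      · rw [hq2'] at h1 h2
        exact absurd ((prime_dvd_two_pow hr h1).trans (prime_dvd_two_pow hs h2).symm) hrs
      · left
        rw [hab] at h1 h2
        exact ⟨dvd_mul_of_dvd_right h1 _, dvd_mul_of_dvd_right h2 _⟩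
      · left
        exact ⟨h1.trans (mul_dvd_mul_left _ (dvd_mul_right _ _)),
          h2.trans (mul_dvd_mul_left _ (dvd_mul_right _ _))⟩
      · left
        exact ⟨h1.trans (mul_dvd_mul_left _ (dvd_mul_left _ _)),
          h2.trans (mul_dvd_mul_left _ (dvd_mul_left _ _))⟩
      · rcases (Nat.Prime.dvd_mul hr).1 h1 with h3 | h3
        · rcases (Nat.Prime.dvd_mul hs).1 h2 with h4 | h4
          · left
            exact ⟨dvd_mul_of_dvd_left h3 _, dvd_mul_of_dvd_left h4 _⟩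
          · right; right
            exact ⟨h2k s hs h4, h3⟩
        · rcases (Nat.Prime.dvd_mul hs).1 h2 with h4 | h4
          · right; left
            exact ⟨h2k r hr h3, h4⟩
          · exact absurd ((h2k r hr h3).trans (h2k s hs h4).symm) hrs
    · rintro ⟨hrs, hr, hs, h⟩
      have hcop : Nat.Coprime r s := (Nat.coprime_primes hr hs).2 hrs
      have hta : t * a ∈ charDegrees S := (hdeg _).2 (by tauto)
      have htb : t * b ∈ charDegrees S := (hdeg _).2 (by tauto)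
      have ht2 : t * (2 * k) ∈ charDegrees S := (hdeg _).2 (by tauto)
      have hq1 : q ^ 2 + 1 ∈ charDegrees S := (hdeg _).2 (by tauto)
      refine ⟨hrs, hr, hs, ?_⟩
      have hmix : ∀ r s : ℕ, r.Prime → s.Prime → r ∣ t → s ∣ a * b → ∃ d ∈ charDegrees S, r * s ∣ d := by
        intro r s _ hs h1 h2
        rcases (Nat.Prime.dvd_mul hs).1 h2 with h3 | h3
        · exact ⟨_, hta, mul_dvd_mul h1 h3⟩
        · exact ⟨_, htb, mul_dvd_mul h1 h3⟩
      rcases h with ⟨h1, h2⟩ | ⟨rfl, h2⟩ | ⟨rfl, h2⟩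
      · rcases (Nat.Prime.dvd_mul hr).1 h1 with h3 | h3
        · rcases (Nat.Prime.dvd_mul hs).1 h2 with h4 | h4
          · exact ⟨_, hta, (hcop.mul_dvd_of_dvd_of_dvd h3 h4).trans (dvd_mul_right _ _)⟩
          · exact hmix r s hr hs h3 h4
        · rcases (Nat.Prime.dvd_mul hs).1 h2 with h4 | h4
          · obtain ⟨d, hd, h5⟩ := hmix s r hs hr h4 h3
            exact ⟨d, hd, by rwa [mul_comm]⟩
          · exact ⟨_, hq1, by rw [hab]; exact hcop.mul_dvd_of_dvd_of_dvd h3 h4⟩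
      · exact ⟨_, ht2, by rw [mul_comm 2 s]; exact mul_dvd_mul h2 (dvd_mul_right _ _)⟩
      · exact ⟨_, ht2, mul_dvd_mul h2 (dvd_mul_right _ _)⟩

end Cfsg.Agent.H678.SuzGraph
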