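import Cfsg.Agent.H686.CharKit
import Cfsg.Agent.Characters.DegreeBounds
import Cfsg.Agent.S0135

/-!
# Degrees and codegrees of irreducible characters

* `charDegree_dvd_index_ker` : the degree divides the index of the kernel;
* `codeg_mul` : `(|G| / (|ker χ| χ(1))) * (|ker χ| χ(1)) = |G|`;
* `exists_not_dvd` : if `p ∣ |G|` there is a nonprincipal irreducible character of degree prime
  to `p`.
-/

set_option autoImplicit false
set_option linter.unusedSectionVars false

namespace Cfsg.Agent.H678.Codeg

open Cfsg Cfsg.Agent.Characters Cfsg.Agent.H686.CharKit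

universe u

variable {G : Type u} [Group G] [Finite G]

/-- The degree of an irreducible character as the dimension of a representation. -/
theorem exists_rep (χ : IrrCharacter G) : ∃ ρ : Representation ℂ G (Fin (charDegree (χ : G → ℂ)) → ℂ),
    ρ.IsIrreducible ∧ ρ.character = χ := by
  obtain ⟨n, ρ, hρ, hχ⟩ := χ.2
  have h1 : charDegree (χ : G → ℂ) = n := by
    have h2 := charDegree_irr χ
    rw [← hχ, Representation.char_one, Module.finrank_fin_fun] at h2
    rw [hχ] at h2
    exact_mod_cast h2
  subst h1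
  exact ⟨ρ, hρ, hχ⟩

/-- The degree divides the group order. -/
theorem charDegree_dvd_card (χ : IrrCharacter G) : charDegree (χ : G → ℂ) ∣ Nat.card G := by
  obtain ⟨ρ, hρ, -⟩ := exists_rep χ
  have := hρ
  have h := S0135.result ρ
  rwa [Module.finrank_fin_fun] at h

/-- The degree of an inflated character. -/
theorem charDegree_infl (N : Subgroup G) [N.Normal] (ψ : IrrCharacter (G ⧸ N)) :
    charDegree (infl N ψ : G → ℂ) = charDegree (ψ : G ⧸ N → ℂ) := rfl

/-- The degree divides the index of any normal subgroup contained in the kernel. -/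
theorem charDegree_dvd_index (χ : IrrCharacter G) (N : Subgroup G) [N.Normal] (h : N ≤ chKer χ) :
    charDegree (χ : G → ℂ) ∣ N.index := by
  obtain ⟨ψ, rfl⟩ := exists_infl N χ h
  rw [charDegree_infl]
  exact charDegree_dvd_card ψ

/-- The degree divides the index of the kernel. -/
theorem charDegree_dvd_index_ker (χ : IrrCharacter G) :
    charDegree (χ : G → ℂ) ∣ (chKer χ).index := charDegree_dvd_index χ _ le_rfl

/-- The degree divides the index of the center. -/
theorem charDegree_dvd_index_center (χ : IrrCharacter G) :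
    charDegree (χ : G → ℂ) ∣ (Subgroup.center G).index := by
  obtain ⟨ρ, hρ, -⟩ := exists_rep χ
  have := hρ
  have h := DegreeBounds.finrank_dvd_index_center ρ
  rwa [Module.finrank_fin_fun] at h

theorem card_ker (χ : IrrCharacter G) :
    Nat.card {g : G // (χ : G → ℂ) g = (χ : G → ℂ) 1} = Nat.card (chKer χ) := rfl

theorem ker_mul_dvd (χ : IrrCharacter G) :
    Nat.card {g : G // (χ : G → ℂ) g = (χ : G → ℂ) 1} * charDegree (χ : G → ℂ) ∣ Nat.card G := by
  rw [card_ker, ← (chKer χ).card_mul_index]
  exact Nat.mul_dvd_mul_left _ (charDegree_dvd_index_ker χ)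

/-- The codegree times the order of the kernel times the degree is the group order. -/
theorem codeg_mul (χ : IrrCharacter G) :
    Nat.card G / (Nat.card {g : G // (χ : G → ℂ) g = (χ : G → ℂ) 1} * charDegree (χ : G → ℂ)) *
      (Nat.card {g : G // (χ : G → ℂ) g = (χ : G → ℂ) 1} * charDegree (χ : G → ℂ)) = Nat.card G :=
  Nat.div_mul_cancel (ker_mul_dvd χ)

theorem codeg_dvd_card (χ : IrrCharacter G) :
    Nat.card G / (Nat.card {g : G // (χ : G → ℂ) g = (χ : G → ℂ) 1} * charDegree (χ : G → ℂ)) ∣
      Nat.card G := ⟨_, (codeg_mul χ).symm⟩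

theorem codeg_mul_degree (χ : IrrCharacter G) :
    Nat.card G / (Nat.card {g : G // (χ : G → ℂ) g = (χ : G → ℂ) 1} * charDegree (χ : G → ℂ)) *
      charDegree (χ : G → ℂ) = (chKer χ).index := by
  have h1 := codeg_mul χ
  have h2 := (chKer χ).card_mul_index
  have h3 : 0 < Nat.card (chKer χ) := Nat.card_pos
  rw [card_ker] at h1 ⊢
  apply Nat.eq_of_mul_eq_mul_left h3
  rw [h2]
  calc _ = Nat.card G / (Nat.card (chKer χ) * charDegree (χ : G → ℂ)) *
        (Nat.card (chKer χ) * charDegree (χ : G → ℂ)) := by ring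
    _ = _ := h1

/-- The trivial character. -/
noncomputable def one' (G : Type u) [Group G] : IrrCharacter G := ⟨1, Core.isIrr_one⟩

theorem charDegree_one' : charDegree (one' G : G → ℂ) = 1 := by
  rw [charDegree_eq_one_iff]
  rfl

/-- An irreducible character is trivial exactly when its kernel is everything. -/
theorem chKer_eq_top_iff (χ : IrrCharacter G) : chKer χ = ⊤ ↔ (χ : G → ℂ) = 1 := by
  classical
  have : Fintype G := Fintype.ofFinite G
  constructor
  · intro h
    have h1 : ∀ g, (χ : G → ℂ) g = (χ : G → ℂ) 1 := fun g => by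
      rw [← mem_chKer, h]; trivial
    by_contra hne
    have h2 := Core.classInner_irr_ne χ.2 (Core.isIrr_one (G := G)) hne
    rw [Core.classInner_def] at h2
    simp only [h1, Pi.one_apply, map_one, mul_one, Finset.sum_const, nsmul_eq_mul,
      Finset.card_univ, mul_eq_zero, inv_eq_zero] at h2
    rcases h2 with h2 | h2 | h2
    · exact Core.card_ne_zero_complex h2
    · exact absurd h2 (by exact_mod_cast Fintype.card_ne_zero)
    · exact Core.isIrr_apply_one_ne_zero χ.2 h2
  · intro h
    rw [eq_top_iff]
    intro g _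
    rw [mem_chKer, h]
    rfl

/-- If `p` divides the order of the group, some nonprincipal irreducible character has degree
prime to `p`. -/
theorem exists_not_dvd {p : ℕ} (hp : p.Prime) (hd : p ∣ Nat.card G) :
    ∃ χ : IrrCharacter G, (χ : G → ℂ) ≠ 1 ∧ ¬ p ∣ charDegree (χ : G → ℂ) := by
  classical
  by_contra hno
  push Not at hno
  have : Finite (IrrCharacter G) := Core.finite_irr
  have : Fintype (IrrCharacter G) := Fintype.ofFinite _
  have h := sum_deg_sq (G := G)
  rw [← Finset.add_sum_erase _ _ (Finset.mem_univ (one' G)), charDegree_one', one_pow] at h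
  have h2 : p ∣ ∑ χ ∈ Finset.univ.erase (one' G), charDegree (χ : G → ℂ) ^ 2 := by
    refine Finset.dvd_sum fun χ hχ => ?_
    have h3 : (χ : G → ℂ) ≠ 1 := fun h => (Finset.ne_of_mem_erase hχ) (Subtype.ext h)
    exact (hno χ h3).trans (dvd_pow_self _ two_ne_zero)
  have h4 : p ∣ 1 := (Nat.dvd_add_left h2).1 (h ▸ hd)
  exact hp.one_lt.ne' (Nat.dvd_one.1 h4)

/-- The square of the degree is at most the index of the center. -/
theorem sq_charDegree_le_index_center (χ : IrrCharacter G) :
    charDegree (χ : G → ℂ) ^ 2 ≤ (Subgroup.center G).index := by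
  classical
  have : Fintype G := Fintype.ofFinite G
  obtain ⟨ρ, hρ, hχ⟩ := exists_rep χ
  have h1 : ∀ z ∈ Subgroup.center G, Complex.normSq ((χ : G → ℂ) z)
      = (charDegree (χ : G → ℂ) : ℝ) ^ 2 := by
    intro z hz
    obtain ⟨c, hc⟩ := Central.exists_smul_of_comm ρ hρ (ρ z) (fun g => by
      rw [← map_mul, ← map_mul, (Subgroup.mem_center_iff.1 hz g)])
    have h2 := (Values.norm_character_eq_iff ρ z).2 ⟨c, hc⟩
    rw [hχ, Module.finrank_fin_fun] at h2
    rw [Complex.normSq_eq_norm_sq, h2]
  have h2 : ((Nat.card G : ℝ)⁻¹ * ∑ g : G, Complex.normSq ((χ : G → ℂ) g) : ℝ) = 1 := by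
    have h3 := Core.classInner_irr_self χ.2
    rw [Core.classInner_self_eq_ofReal] at h3
    exact_mod_cast h3
  have hG : (0 : ℝ) < Nat.card G := by exact_mod_cast Nat.card_pos
  have h3 : ∑ g : G, Complex.normSq ((χ : G → ℂ) g) = Nat.card G := by
    field_simp at h2
    exact h2
  have h4 : ∑ z : Subgroup.center G, Complex.normSq ((χ : G → ℂ) z) ≤
      ∑ g : G, Complex.normSq ((χ : G → ℂ) g) := by
    have h5 : ∑ z : {x : G // x ∈ Subgroup.center G}, Complex.normSq ((χ : G → ℂ) (z : G)) =
        ∑ g ∈ Finset.univ.filter (fun g => g ∈ Subgroup.center G), Complex.normSq ((χ : G → ℂ) g) :=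
      (Finset.sum_subtype (Finset.univ.filter fun g => g ∈ Subgroup.center G) (fun g => by simp)
        (fun g => Complex.normSq ((χ : G → ℂ) g))).symm
    rw [h5]
    exact Finset.sum_le_sum_of_subset_of_nonneg (Finset.subset_univ _)
      fun g _ _ => Complex.normSq_nonneg _
  have h5 : ∑ z : Subgroup.center G, Complex.normSq ((χ : G → ℂ) z) =
      Nat.card (Subgroup.center G) * (charDegree (χ : G → ℂ) : ℝ) ^ 2 := by
    rw [Finset.sum_congr rfl fun (z : Subgroup.center G) _ => h1 z z.2, Finset.sum_const, nsmul_eq_mul,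
      Finset.card_univ, Nat.card_eq_fintype_card]
  rw [h3, h5] at h4
  have h6 : Nat.card (Subgroup.center G) * charDegree (χ : G → ℂ) ^ 2 ≤
      Nat.card (Subgroup.center G) * (Subgroup.center G).index := by
    rw [(Subgroup.center G).card_mul_index]
    exact_mod_cast h4
  exact Nat.le_of_mul_le_mul_left h6 Nat.card_pos

end Cfsg.Agent.H678.Codeg
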