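import Cfsg.Agent.H678.GoodDef

/-!
# `Good (n! / 2)` for `n ≥ 5`
-/

set_option autoImplicit false

namespace Cfsg.Agent.H678

theorem two_mul_four_pow_lt {n : ℕ} (hn : 6 ≤ n) : 2 * 4 ^ (n - 2) < n.factorial := by
  induction n, hn using Nat.le_induction with
  | base => decide
  | succ n hn ih =>
    rw [Nat.factorial_succ, show n + 1 - 2 = (n - 2) + 1 by omega, pow_succ]
    nlinarith

theorem two_mul_three_pow_lt {n : ℕ} (hn : 6 ≤ n) : 2 * 3 ^ (n - 1) < n.factorial := by
  induction n, hn using Nat.le_induction with
  | base => decide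
  | succ n hn ih =>
    rw [Nat.factorial_succ, show n + 1 - 1 = (n - 1) + 1 by omega, pow_succ]
    nlinarith

theorem sq_le_three_pow {p : ℕ} (hp : 3 ≤ p) : p ^ 2 ≤ 3 ^ (p - 1) := by
  induction p, hp using Nat.le_induction with
  | base => decide
  | succ p hp ih =>
    rw [show p + 1 - 1 = (p - 1) + 1 by omega, pow_succ 3]
    nlinarith

theorem factorization_factorial_le {n p : ℕ} (hn : n ≠ 0) (hp : p.Prime) :
    (p - 1) * n.factorial.factorization p ≤ n - 1 := by
  rw [Nat.sub_one_mul_factorization_factorial hp]
  have : (p.digits n).sum ≠ 0 := by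
    intro h
    have h1 := Nat.modEq_digits_sum
    have h2 : p.digits n = [] ∨ (p.digits n).getLast? = some 0 := by
      by_cases h3 : p.digits n = []
      · exact Or.inl h3
      · right
        rw [List.getLast?_eq_getLast_of_ne_nil h3]
        congr 1
        have h4 : (p.digits n).getLast h3 ∈ p.digits n := List.getLast_mem h3
        have h5 := List.single_le_sum (fun _ _ => Nat.zero_le _) _ h4
        omega
    rcases h2 with h2 | h2
    · exact hn (Nat.digits_eq_nil_iff_eq_zero.1 h2)
    · have h3 : p.digits n ≠ [] := by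
        intro h4
        rw [h4] at h2
        simp at h2
      rw [List.getLast?_eq_getLast_of_ne_nil h3] at h2
      exact Nat.getLast_digit_ne_zero p hn (Option.some.inj h2)
  omega

/-- **Alternating groups.** -/
theorem alt_good {n N : ℕ} (hn : 5 ≤ n) (h : n.factorial = 2 * N) : Good N := by
  rcases Nat.eq_or_lt_of_le hn with rfl | hn6
  · have : N = 60 := by
      have : Nat.factorial 5 = 120 := by decide
      omega
    subst this
    exact good_of_chk (l := [(2, 2), (3, 1), (5, 1)]) (by decide +kernel)
  intro p hp
  have hN : N ≠ 0 := by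
    rintro rfl
    exact Nat.factorial_ne_zero n (by omega)
  have h0 := factorization_factorial_le (n := n) (by omega) hp
  rw [h, Nat.factorization_mul two_ne_zero hN, Finsupp.add_apply] at h0
  rcases Nat.lt_or_ge p 3 with h3 | h3
  · have hp2 : p = 2 := by
      have := hp.two_le
      omega
    subst hp2
    rw [Nat.Prime.factorization_self Nat.prime_two] at h0
    have h1 : N.factorization 2 ≤ n - 2 := by omega
    have h2 := two_mul_four_pow_lt hn6
    rw [h] at h2
    calc (2 ^ N.factorization 2) ^ 2 ≤ (2 ^ (n - 2)) ^ 2 :=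
          Nat.pow_le_pow_left (Nat.pow_le_pow_right (by norm_num) h1) 2
      _ = 4 ^ (n - 2) := by rw [← pow_mul, mul_comm, pow_mul]; norm_num
      _ < N := by omega
  · have h1 : (p - 1) * N.factorization p ≤ n - 1 := by
      have h2 : (p - 1) * N.factorization p ≤
          (p - 1) * ((Nat.factorization 2) p + N.factorization p) :=
        Nat.mul_le_mul_left _ (Nat.le_add_left _ _)
      omega
    have h2 := two_mul_three_pow_lt hn6
    rw [h] at h2
    calc (p ^ N.factorization p) ^ 2 = (p ^ 2) ^ N.factorization p := by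
          rw [← pow_mul, mul_comm, pow_mul]
      _ ≤ (3 ^ (p - 1)) ^ N.factorization p := Nat.pow_le_pow_left (sq_le_three_pow h3) _
      _ = 3 ^ ((p - 1) * N.factorization p) := by rw [pow_mul]
      _ ≤ 3 ^ (n - 1) := Nat.pow_le_pow_right (by norm_num) h1
      _ < N := by omega

end Cfsg.Agent.H678
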