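import Cfsg.Agent.H678.CCExact

/-!
# The character data of a CC-subgroup

`CCData A s e` packages everything: `R` the `s` exceptional characters, of degree `d`, the integers `f ψ`, the values
of the nonexceptional characters on `A#` (`f = 0` on `R`).
-/

set_option autoImplicit false

open scoped ComplexConjugate
open Cfsg

namespace Cfsg.Agent.H678.CCExact

open Cfsg.Agent.Characters Cfsg.Agent.Characters.CCBasic Cfsg.Agent.Characters.CCOrbit
  Cfsg.Agent.Characters.CCInduce Cfsg.Agent.Characters.CCExceptional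
  Cfsg.Agent.Characters.CCValues Cfsg.Agent.Characters.CCEstimates
  Cfsg.Agent.Characters.CCCounting Cfsg.Agent.CharactersDeep.NormalInd

universe u

variable {G : Type u} [Group G] [Fintype G]

/-- The character data of a CC-subgroup `A` of order `s e + 1`, `|N(A)| = e |A|`. -/
structure CCData [Fintype (IrrCharacter G)] (A : Subgroup G) (s e : ℕ) where
  /-- the exceptional characters -/
  R : Finset (IrrCharacter G)
  /-- the sign -/
  ε : ℤ
  /-- the error -/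
  c : ℤ
  /-- the degree of the exceptional characters -/
  d : ℕ
  /-- the values of the other characters -/
  f : IrrCharacter G → ℤ
  hcard : R.card = s
  hε : ε = 1 ∨ ε = -1
  deg : ∀ ψ ∈ R, charDegree (ψ : G → ℂ) = d
  agree : ∀ ψ ∈ R, ∀ ψ' ∈ R, ∀ y : G, ¬ InConj A y → (ψ : G → ℂ) y = (ψ' : G → ℂ) y
  nonconst : ∀ ψ ∈ R, ∀ z : ℂ, ∃ a ∈ A, a ≠ 1 ∧ (ψ : G → ℂ) a ≠ z
  sep : ∀ ψ ∈ R, ∀ ψ' ∈ R, ψ ≠ ψ' → ∃ a ∈ A, (ψ : G → ℂ) a ≠ (ψ' : G → ℂ) a
  hf0 : ∀ ψ ∈ R, f ψ = 0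
  hf : ∀ ψ, ψ ∉ R → ∀ a ∈ A, a ≠ 1 → (ψ : G → ℂ) a = f ψ
  dvd : ∀ ψ, ψ ∉ R → (Nat.card A : ℤ) ∣ charDegree (ψ : G → ℂ) - f ψ
  ddvd : (Nat.card A : ℤ) ∣ d - (ε * e + c)
  sq : ∑ ψ : IrrCharacter G, f ψ ^ 2 + s * c ^ 2 = e + 2 * ε * c
  sd : ∑ ψ : IrrCharacter G, (charDegree (ψ : G → ℂ) : ℤ) * f ψ + s * d * c = ε * d

theorem nonempty_ccData [Fintype (IrrCharacter G)] {A : Subgroup G} (hA : IsCC A) {s e : ℕ}
    (he : len A = e) (hs : s * e + 1 = Nat.card A) (h2 : 2 ≤ s) : Nonempty (CCData A s e) := by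
  classical
  subst he
  have : Fintype A := Fintype.ofFinite _
  have : Finite (IrrCharacter A) := Core.finite_irr
  have : Fintype (IrrCharacter A) := Fintype.ofFinite _
  have : Fintype (NP A) := Fintype.ofFinite _
  obtain ⟨X⟩ := nonempty_exc hA
  have hcard : (rng X).card = s := by
    have h := card_rng_mul_len hA X
    have h3 := len_pos A
    have h4 : (rng X).card * len A = s * len A := by omega
    exact Nat.eq_of_mul_eq_mul_right h3 h4
  have hR2 : 2 ≤ (rng X).card := hcard ▸ h2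
  have hn : 1 < Nat.card A := by
    have h3 := len_pos A
    have : 0 < s * len A := Nat.mul_pos (by omega) h3
    omega
  obtain ⟨b, c, -, h1, hm⟩ := exists_data hA X hR2
  obtain ⟨l₀⟩ := nonempty_np hA
  have hf' : ∀ ψ : IrrCharacter G, ψ ∉ rng X → ∃ z : ℤ, (∀ a : A, a ≠ 1 → (ψ : G → ℂ) a = z) ∧
      (Nat.card A : ℤ) ∣ charDegree (ψ : G → ℂ) - z := by
    intro ψ hψ
    have hψ' : ∀ l, ψ ≠ X.E l := fun l h => hψ ((mem_rng X ψ).2 ⟨l, h.symm⟩)
    obtain ⟨z, hz⟩ := apply_eq_of_not_exceptional hA X hψ'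
    refine ⟨z, hz, ?_⟩
    -- the multiplicity of the principal character
    have h3 := mult_spec ψ (one A)
    rw [Core.classInner_def, coe_one] at h3
    have hn0 : (Nat.card A : ℂ) ≠ 0 := Core.card_ne_zero_complex
    have h4 : ∑ a : A, (ψ : G → ℂ) a = (Nat.card A : ℂ) * mult ψ (one A) := by
      rw [← h3, ← mul_assoc, mul_inv_cancel₀ hn0, one_mul]
      exact Finset.sum_congr rfl fun a _ => by simp
    rw [← Finset.add_sum_erase Finset.univ _ (Finset.mem_univ (1 : A)),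
      Finset.sum_congr rfl (fun a ha => hz a (Finset.ne_of_mem_erase ha)), Finset.sum_const,
      Finset.card_erase_of_mem (Finset.mem_univ _), Finset.card_univ, nsmul_eq_mul, Subgroup.coe_one,
      ← H686.CharKit.charDegree_irr ψ, Nat.cast_sub Fintype.card_pos, ← Nat.card_eq_fintype_card] at h4
    have h5 : (charDegree (ψ : G → ℂ) : ℤ) + (Nat.card A - 1) * z = Nat.card A * mult ψ (one A) := by
      have : ((charDegree (ψ : G → ℂ) + (Nat.card A - 1) * z : ℤ) : ℂ) =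
          ((Nat.card A * mult ψ (one A) : ℤ) : ℂ) := by
        push_cast
        rw [← h4]
        push_cast
        ring
      exact_mod_cast this
    exact ⟨mult ψ (one A) - z, by linear_combination h5⟩
  choose! f hf hdvd using hf'
  let F : IrrCharacter G → ℤ := fun ψ => if ψ ∈ rng X then 0 else f ψ
  have hd : ∃ d : ℕ, ∀ ψ ∈ rng X, charDegree (ψ : G → ℂ) = d := by
    refine ⟨charDegree (X.E l₀ : G → ℂ), fun ψ hψ => ?_⟩
    obtain ⟨l, rfl⟩ := (mem_rng X ψ).1 hψ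
    have h3 := apply_one_eq hA X l l₀
    rw [← H686.CharKit.charDegree_irr, ← H686.CharKit.charDegree_irr] at h3
    exact_mod_cast h3
  obtain ⟨d, hd⟩ := hd
  have hsum : ∀ g : IrrCharacter G → ℤ, (∀ ψ ∈ rng X, g ψ = 0) →
      ∑ ψ : IrrCharacter G, g ψ = ∑ ψ ∈ Finset.univ.filter (fun ψ : IrrCharacter G => ψ ∉ rng X), g ψ := by
    intro g hg
    rw [← Finset.sum_filter_add_sum_filter_not Finset.univ (fun ψ => ψ ∈ rng X)]
    rw [Finset.sum_eq_zero (s := Finset.univ.filter (fun ψ => ψ ∈ rng X)), zero_add]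
    intro ψ hψ
    exact hg ψ (Finset.mem_filter.1 hψ).2
  refine ⟨⟨rng X, X.ε, c, d, F, hcard, X.hε, hd, ?_, ?_, ?_, ?_, ?_, ?_, ?_, ?_, ?_⟩⟩
  · intro ψ hψ ψ' hψ' y hy
    obtain ⟨l, rfl⟩ := (mem_rng X ψ).1 hψ
    obtain ⟨m, rfl⟩ := (mem_rng X ψ').1 hψ'
    exact apply_eq_of_not_inConj hA X l m hy
  · intro ψ hψ z
    by_contra hno
    push Not at hno
    exact not_mem_rng_of_const hA X hR2 (z := z) (fun a ha => hno a a.2 (fun h => ha (Subtype.ext h))) hψ
  · intro ψ hψ ψ' hψ' hne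
    by_contra hno
    push Not at hno
    obtain ⟨l, rfl⟩ := (mem_rng X ψ).1 hψ
    obtain ⟨m, rfl⟩ := (mem_rng X ψ').1 hψ'
    have h3 : mult (X.E l) l.1 = mult (X.E m) l.1 := by
      have h4 : (mult (X.E l) l.1 : ℂ) = mult (X.E m) l.1 := by
        rw [← mult_spec, ← mult_spec]
        congr 1
        funext a
        exact hno a a.2
      exact_mod_cast h4
    rw [hm, hm, if_pos (Rel.refl _), if_neg (fun h => hne ((X.E_iff l m).2 h.symm))] at h3
    rcases X.hε with h | h <;> rw [h] at h3 <;> norm_num at h3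
  · intro ψ hψ
    exact if_pos hψ
  · intro ψ hψ a ha ha1
    rw [show F ψ = f ψ from if_neg hψ]
    exact hf ψ hψ ⟨a, ha⟩ (fun h => ha1 (congrArg Subtype.val h))
  · intro ψ hψ
    rw [show F ψ = f ψ from if_neg hψ]
    exact hdvd ψ hψ
  · have h3 := degree_eq hA X h1 hm l₀
    rw [← H686.CharKit.charDegree_irr, hd _ ((mem_rng X _).2 ⟨l₀, rfl⟩)] at h3
    have h4 : (d : ℤ) = Nat.card A * b + c + X.ε * len A := by exact_mod_cast h3
    exact ⟨b, by rw [h4]; ring⟩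
  · rw [hsum (fun ψ => F ψ ^ 2) (fun ψ hψ => by rw [show F ψ = 0 from if_pos hψ]; ring)]
    have h3 := sum_sq hA X h1 hm hn f (fun ψ hψ a ha => hf ψ hψ a ha)
    rw [← h3, hcard]
    congr 1
    refine Finset.sum_congr rfl fun ψ hψ => ?_
    rw [show F ψ = f ψ from if_neg (Finset.mem_filter.1 hψ).2]
  · rw [hsum (fun ψ => charDegree (ψ : G → ℂ) * F ψ)
      (fun ψ hψ => by rw [show F ψ = 0 from if_pos hψ]; ring)]
    have h3 := sum_deg hA X h1 hm hn f (fun ψ hψ a ha => hf ψ hψ a ha) d hd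
    rw [← h3, hcard]
    congr 1
    refine Finset.sum_congr rfl fun ψ hψ => ?_
    rw [show F ψ = f ψ from if_neg (Finset.mem_filter.1 hψ).2]

/-- The exceptional characters of two CC-subgroups with no nonidentity elements conjugate are
different. -/
theorem CCData.disjoint [Fintype (IrrCharacter G)] {A B : Subgroup G} {s e s' e' : ℕ} (D : CCData A s e)
    (D' : CCData B s' e') (hs : 2 ≤ s) (hAB : ∀ x ∈ A, x ≠ 1 → ∀ y ∈ B, ¬ IsConj x y)
    {ψ : IrrCharacter G} (hψ : ψ ∈ D.R) : ψ ∉ D'.R := by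
  intro hψ'
  obtain ⟨χ, hχ, hne⟩ : ∃ χ ∈ D.R, χ ≠ ψ := by
    have h : 1 < D.R.card := by rw [D.hcard]; omega
    obtain ⟨χ, hχ, hne⟩ := Finset.exists_mem_ne h ψ
    exact ⟨χ, hχ, hne⟩
  have hag : ∀ y ∈ B, (ψ : G → ℂ) y = (χ : G → ℂ) y := by
    intro y hy
    apply D.agree ψ hψ χ hχ
    rintro ⟨x, hx, hx1, hxy⟩
    exact hAB x hx hx1 y hy hxy
  by_cases hχ' : χ ∈ D'.R
  · obtain ⟨a, ha, h⟩ := D'.sep χ hχ' ψ hψ' hne
    exact h (hag a ha).symm
  · obtain ⟨a, ha, ha1, h⟩ := D'.nonconst ψ hψ' (D'.f χ)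
    exact h ((hag a ha).trans (D'.hf χ hχ' a ha ha1))

/-- The values on `B#` of the exceptional characters of `A` are equal. -/
theorem CCData.f_eq [Fintype (IrrCharacter G)] {A B : Subgroup G} {s e s' e' : ℕ} (D : CCData A s e)
    (D' : CCData B s' e') (hs : 2 ≤ s) (hAB : ∀ x ∈ A, x ≠ 1 → ∀ y ∈ B, ¬ IsConj x y)
    (hB : B ≠ ⊥) {ψ χ : IrrCharacter G} (hψ : ψ ∈ D.R) (hχ : χ ∈ D.R) : D'.f ψ = D'.f χ := by
  obtain ⟨y, hy, hy1⟩ := (Subgroup.ne_bot_iff_exists_ne_one.1 hB).elim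
    (fun y hy => (⟨y, y.2, fun h => hy (Subtype.ext h)⟩ : ∃ y ∈ B, y ≠ 1))
  have h1 := D'.hf ψ (D.disjoint D' hs hAB hψ) y hy hy1
  have h2 := D'.hf χ (D.disjoint D' hs hAB hχ) y hy hy1
  have h3 : (ψ : G → ℂ) y = (χ : G → ℂ) y := by
    apply D.agree ψ hψ χ hχ
    rintro ⟨x, hx, hx1, hxy⟩
    exact hAB x hx hx1 y hy hxy
  rw [h1, h2] at h3
  exact_mod_cast h3

end Cfsg.Agent.H678.CCExact
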