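import Cfsg.Agent.H678.AltGood
import Cfsg.Agent.OrdDiv.Main

/-!
# `Good` for the sporadic groups and the assembly of FACT A

`FamTable` collects the facts about the families of Lie type; `good_card` is FACT A for a known nonabelian
simple group.
-/

set_option autoImplicit false

namespace Cfsg.Agent.H678

open Cfsg Cfsg.Agent.OrdDiv

universe u

theorem spor_good : ∀ x ∈ OrdDiv.spor, H678.Good x.2 := by
  intro x hx
  simp only [OrdDiv.spor, List.mem_cons, List.not_mem_nil, or_false] at hx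
  rcases hx with rfl | rfl | rfl | rfl | rfl | rfl | rfl | rfl | rfl | rfl | rfl | rfl | rfl | rfl | rfl | rfl | rfl |
    rfl | rfl | rfl | rfl | rfl | rfl | rfl | rfl | rfl | rfl
  · exact good_of_chk (l := [(2, 11), (3, 3), (5, 2), (13, 1)]) (by decide +kernel)
  · exact good_of_chk (l := [(2, 4), (3, 2), (5, 1), (11, 1)]) (by decide +kernel)
  · exact good_of_chk (l := [(2, 6), (3, 3), (5, 1), (11, 1)]) (by decide +kernel)
  · exact good_of_chk (l := [(2, 7), (3, 2), (5, 1), (7, 1), (11, 1)]) (by decide +kernel)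
  · exact good_of_chk (l := [(2, 7), (3, 2), (5, 1), (7, 1), (11, 1), (23, 1)]) (by decide +kernel)
  · exact good_of_chk (l := [(2, 10), (3, 3), (5, 1), (7, 1), (11, 1), (23, 1)]) (by decide +kernel)
  · exact good_of_chk (l := [(2, 3), (3, 1), (5, 1), (7, 1), (11, 1), (19, 1)]) (by decide +kernel)
  · exact good_of_chk (l := [(2, 7), (3, 3), (5, 2), (7, 1)]) (by decide +kernel)
  · exact good_of_chk (l := [(2, 7), (3, 5), (5, 1), (17, 1), (19, 1)]) (by decide +kernel)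
  · exact good_of_chk (l := [(2, 21), (3, 3), (5, 1), (7, 1), (11, 3), (23, 1), (29, 1), (31, 1), (37, 1), (43, 1)]) (by decide +kernel)
  · exact good_of_chk (l := [(2, 21), (3, 9), (5, 4), (7, 2), (11, 1), (13, 1), (23, 1)]) (by decide +kernel)
  · exact good_of_chk (l := [(2, 18), (3, 6), (5, 3), (7, 1), (11, 1), (23, 1)]) (by decide +kernel)
  · exact good_of_chk (l := [(2, 10), (3, 7), (5, 3), (7, 1), (11, 1), (23, 1)]) (by decide +kernel)
  · exact good_of_chk (l := [(2, 7), (3, 6), (5, 3), (7, 1), (11, 1)]) (by decide +kernel)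
  · exact good_of_chk (l := [(2, 9), (3, 2), (5, 3), (7, 1), (11, 1)]) (by decide +kernel)
  · exact good_of_chk (l := [(2, 13), (3, 7), (5, 2), (7, 1), (11, 1), (13, 1)]) (by decide +kernel)
  · exact good_of_chk (l := [(2, 10), (3, 3), (5, 2), (7, 3), (17, 1)]) (by decide +kernel)
  · exact good_of_chk (l := [(2, 14), (3, 3), (5, 3), (7, 1), (13, 1), (29, 1)]) (by decide +kernel)
  · exact good_of_chk (l := [(2, 9), (3, 4), (5, 1), (7, 3), (11, 1), (19, 1), (31, 1)]) (by decide +kernel)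
  · exact good_of_chk (l := [(2, 8), (3, 7), (5, 6), (7, 1), (11, 1), (31, 1), (37, 1), (67, 1)]) (by decide +kernel)
  · exact good_of_chk (l := [(2, 17), (3, 9), (5, 2), (7, 1), (11, 1), (13, 1)]) (by decide +kernel)
  · exact good_of_chk (l := [(2, 18), (3, 13), (5, 2), (7, 1), (11, 1), (13, 1), (17, 1), (23, 1)]) (by decide +kernel)
  · exact good_of_chk (l := [(2, 21), (3, 16), (5, 2), (7, 3), (11, 1), (13, 1), (17, 1), (23, 1), (29, 1)]) (by decide +kernel)
  · exact good_of_chk (l := [(2, 14), (3, 6), (5, 6), (7, 1), (11, 1), (19, 1)]) (by decide +kernel)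
  · exact good_of_chk (l := [(2, 15), (3, 10), (5, 3), (7, 2), (13, 1), (19, 1), (31, 1)]) (by decide +kernel)
  · exact good_of_chk (l := [(2, 41), (3, 13), (5, 6), (7, 2), (11, 1), (13, 1), (17, 1), (19, 1), (23, 1), (31, 1), (47, 1)]) (by decide +kernel)
  · exact good_of_chk (l := [(2, 46), (3, 20), (5, 9), (7, 6), (11, 2), (13, 3), (17, 1), (19, 1), (23, 1), (29, 1), (31, 1), (41, 1), (47, 1), (59, 1), (71, 1)]) (by decide +kernel)

/-- The facts about the families of Lie type needed for FACT A. -/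
structure FamTable : Prop where
  psl : ∀ (F : Type) [Field F] [Fintype F] (n : ℕ), 2 ≤ n → (n = 2 → 4 ≤ Fintype.card F) →
    H678.Good (Nat.card (Matrix.ProjectiveSpecialLinearGroup (Fin n) F))
  psp : ∀ (F : Type) [Field F] [Fintype F] (m : ℕ), 2 ≤ m → (m = 2 → 3 ≤ Fintype.card F) →
    H678.Good (Nat.card (PSp m F))
  psu : ∀ (F : Type) [Field F] [Fintype F] (n q : ℕ), Fintype.card F = q ^ 2 → 3 ≤ n → ¬ (n = 3 ∧ q = 2) →
    H678.Good (Nat.card (PSU n F q))
  oodd : ∀ (F : Type) [Field F] [Fintype F] (m : ℕ), 3 ≤ m → Odd (Fintype.card F) →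
    H678.Good (Nat.card (POmega F (quadFormOdd m F)))
  oplus : ∀ (F : Type) [Field F] [Fintype F] (m : ℕ), 4 ≤ m →
    H678.Good (Nat.card (POmega F (quadFormPlus m F)))
  ominus : ∀ (F : Type) [Field F] [Fintype F] (m : ℕ) (a b : F), 4 ≤ m →
    (∀ z₁ z₂ : F, z₁ ^ 2 + a * z₁ * z₂ + b * z₂ ^ 2 = 0 → z₁ = 0 ∧ z₂ = 0) →
    H678.Good (Nat.card (POmega F (quadFormMinus (m - 1) F a b)))
  g2 : ∀ q : ℕ, IsPrimePow q → 3 ≤ q → H678.Good (q ^ 6 * (q ^ 2 - 1) * (q ^ 6 - 1))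
  f4 : ∀ q : ℕ, IsPrimePow q → H678.Good (q ^ 24 * (q ^ 2 - 1) * (q ^ 6 - 1) * (q ^ 8 - 1) * (q ^ 12 - 1))
  e6 : ∀ q N : ℕ, IsPrimePow q → Nat.gcd 3 (q - 1) * N =
      q ^ 36 * (q ^ 2 - 1) * (q ^ 5 - 1) * (q ^ 6 - 1) * (q ^ 8 - 1) * (q ^ 9 - 1) * (q ^ 12 - 1) → H678.Good N
  e7 : ∀ q N : ℕ, IsPrimePow q → Nat.gcd 2 (q - 1) * N = q ^ 63 * (q ^ 2 - 1) * (q ^ 6 - 1) * (q ^ 8 - 1) *
      (q ^ 10 - 1) * (q ^ 12 - 1) * (q ^ 14 - 1) * (q ^ 18 - 1) → H678.Good N
  e8 : ∀ q : ℕ, IsPrimePow q → H678.Good (q ^ 120 * (q ^ 2 - 1) * (q ^ 8 - 1) * (q ^ 12 - 1) * (q ^ 14 - 1) *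
      (q ^ 18 - 1) * (q ^ 20 - 1) * (q ^ 24 - 1) * (q ^ 30 - 1))
  te6 : ∀ q N : ℕ, IsPrimePow q → Nat.gcd 3 (q + 1) * N =
      q ^ 36 * (q ^ 2 - 1) * (q ^ 5 + 1) * (q ^ 6 - 1) * (q ^ 8 - 1) * (q ^ 9 + 1) * (q ^ 12 - 1) → H678.Good N
  td4 : ∀ q : ℕ, IsPrimePow q → H678.Good (q ^ 12 * (q ^ 2 - 1) * (q ^ 6 - 1) * (q ^ 8 + q ^ 4 + 1))
  sz : ∀ m q : ℕ, 1 ≤ m → q = 2 ^ (2 * m + 1) → H678.Good (q ^ 2 * (q - 1) * (q ^ 2 + 1))
  ree : ∀ m q : ℕ, 1 ≤ m → q = 3 ^ (2 * m + 1) → H678.Good (q ^ 3 * (q - 1) * (q ^ 3 + 1))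
  tf4 : ∀ m q : ℕ, 1 ≤ m → q = 2 ^ (2 * m + 1) →
    H678.Good (q ^ 12 * (q - 1) * (q ^ 3 + 1) * (q ^ 4 - 1) * (q ^ 6 + 1))

/-- **FACT A** for known nonabelian simple groups. -/
theorem good_card (T : OrderTable.{u}) (A : FamTable) {S : Type u} [Group S] (h : IsKnownSimple' S)
    (hna : ¬ ∀ a b : S, a * b = b * a) : H678.Good (Nat.card S) := by
  have key : ∀ (g : Grp), g ∈ spor.map (fun x => x.1) → Real g S → H678.Good (Nat.card S) := fun g hg hr => by
    obtain ⟨x, hx, rfl⟩ := List.mem_map.1 hg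
    rw [T.spor S x hx hr]
    exact spor_good x hx
  rcases h with h | h | h | h | h | h | h | h | h | h
  · exfalso
    have : Fact (Nat.card S).Prime := ⟨h⟩
    have : IsCyclic S := isCyclic_of_prime_card (p := Nat.card S) rfl
    exact hna fun a b => (IsCyclic.isMulCommutative (α := S)).is_comm.comm a b
  · obtain ⟨n, hn, ⟨e⟩⟩ := h
    exact alt_good hn (alt_card hn e)
  · obtain ⟨F, _, _, n, hn, hn2, ⟨e⟩⟩ := h
    rw [Nat.card_congr e.toEquiv]
    exact A.psl F n hn hn2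
  · obtain ⟨F, _, _, n, hn, hn2, ⟨e⟩⟩ := h
    rw [Nat.card_congr e.toEquiv]
    exact A.psp F n hn hn2
  · obtain ⟨F, _, _, n, q, hF, hn, hn2, ⟨e⟩⟩ := h
    rw [Nat.card_congr e.toEquiv]
    exact A.psu F n q hF hn hn2
  · obtain ⟨F, _, _, n, hn, ho, ⟨e⟩⟩ := h
    rw [Nat.card_congr e.toEquiv]
    exact A.oodd F n hn ho
  · obtain ⟨F, _, _, n, hn, ⟨e⟩⟩ := h
    rw [Nat.card_congr e.toEquiv]
    exact A.oplus F n hn
  · obtain ⟨F, _, _, n, a, b, hn, hab, ⟨e⟩⟩ := h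
    rw [Nat.card_congr e.toEquiv]
    exact A.ominus F n a b hn hab
  · rcases h with h | h | h | h | h | h | h | h | h | h | h
    · obtain ⟨F, _, _, hq, ⟨e⟩⟩ := h
      rw [Nat.card_congr e.toEquiv, T.g2 F]
      exact A.g2 _ Fintype.isPrimePow_card_of_field hq
    · obtain ⟨F, _, _, ⟨e⟩⟩ := h
      rw [Nat.card_congr e.toEquiv, T.f4 F _ rfl]
      exact A.f4 _ Fintype.isPrimePow_card_of_field
    · obtain ⟨F, _, _, ⟨e⟩⟩ := h
      rw [Nat.card_congr e.toEquiv]
      exact A.e6 _ _ Fintype.isPrimePow_card_of_field (T.e6 F _ rfl)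
    · obtain ⟨F, _, _, ⟨e⟩⟩ := h
      rw [Nat.card_congr e.toEquiv]
      exact A.e7 _ _ Fintype.isPrimePow_card_of_field (T.e7 F _ rfl)
    · obtain ⟨F, _, _, ⟨e⟩⟩ := h
      rw [Nat.card_congr e.toEquiv, T.e8 F _ rfl]
      exact A.e8 _ Fintype.isPrimePow_card_of_field
    · obtain ⟨F, _, _, q, hq, hF, ⟨e⟩⟩ := h
      rw [Nat.card_congr e.toEquiv]
      exact A.te6 q _ hq (T.te6 F q hq hF)
    · obtain ⟨F, _, _, q, hq, hF, ⟨e⟩⟩ := h
      rw [Nat.card_congr e.toEquiv, T.td4 F q hq hF]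
      exact A.td4 q hq
    · obtain ⟨F, _, _, m, hm, hF, ⟨e⟩⟩ := h
      rw [Nat.card_congr e.toEquiv, T.sz F m hm hF]
      exact A.sz m _ hm rfl
    · obtain ⟨F, _, _, m, hm, hF, ⟨e⟩⟩ := h
      rw [Nat.card_congr e.toEquiv, T.ree F m hm hF]
      exact A.ree m _ hm rfl
    · obtain ⟨F, _, _, m, hm, hF, ⟨e⟩⟩ := h
      rw [Nat.card_congr e.toEquiv, T.tf4 F m hm hF]
      exact A.tf4 m _ hm rfl
    · exact key .tits (by decide) h
  · rcases h with h | h | h | h | h | h | h | h | h | h | h | h | h | h | h | h | h | h | h | h | h | h | h | h | h | h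
    · exact key .m11 (by decide) h
    · exact key .m12 (by decide) h
    · exact key .m22 (by decide) h
    · exact key .m23 (by decide) h
    · exact key .m24 (by decide) h
    · exact key .j1 (by decide) h
    · exact key .j2 (by decide) h
    · exact key .j3 (by decide) h
    · exact key .j4 (by decide) h
    · exact key .co1 (by decide) h
    · exact key .co2 (by decide) h
    · exact key .co3 (by decide) h
    · exact key .mcl (by decide) h
    · exact key .hs (by decide) h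
    · exact key .suz (by decide) h
    · exact key .he (by decide) h
    · exact key .ru (by decide) h
    · exact key .on (by decide) h
    · exact key .ly (by decide) h
    · exact key .fi22 (by decide) h
    · exact key .fi23 (by decide) h
    · exact key .fi24 (by decide) h
    · exact key .hn (by decide) h
    · exact key .th (by decide) h
    · exact key .b (by decide) h
    · exact key .m (by decide) h

end Cfsg.Agent.H678
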