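import Mathlib

/-!
# `Good N`: the square of every prime power part of `N` is less than `N`
-/

set_option autoImplicit false

namespace Cfsg.Agent.H678

/-- The square of the full power of each prime dividing `N` is less than `N`. -/
def Good (N : ℕ) : Prop := ∀ p : ℕ, p.Prime → (p ^ N.factorization p) ^ 2 < N

/-- To prove `Good N` it suffices to bound `p ^ k` for `p ^ k ∣ N`. -/
theorem good_of_dvd {N : ℕ} (h : ∀ p k : ℕ, p.Prime → p ^ k ∣ N → (p ^ k) ^ 2 < N) : Good N :=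
  fun p hp => h p _ hp (Nat.ordProj_dvd N p)

theorem Good.lt_of_dvd {N : ℕ} (h : Good N) {p k : ℕ} (hp : p.Prime) (hk : p ^ k ∣ N) :
    (p ^ k) ^ 2 < N := by
  have hN : N ≠ 0 := by
    rintro rfl
    exact absurd (h p hp) (by simp)
  have h1 : p ^ k ≤ p ^ N.factorization p :=
    Nat.pow_le_pow_right hp.pos ((hp.pow_dvd_iff_le_factorization hN).1 hk)
  exact lt_of_le_of_lt (Nat.pow_le_pow_left h1 2) (h p hp)

/-- A decidable test: `N = ∏ pᵢ ^ eᵢ` with `(pᵢ ^ eᵢ) ^ 2 < N`. The bases need not be prime. -/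
def chk (l : List (ℕ × ℕ)) (N : ℕ) : Bool :=
  Nat.beq ((l.map fun x => x.1 ^ x.2).prod) N && (l.all fun x => Nat.blt ((x.1 ^ x.2) ^ 2) N) &&
    Nat.blt 1 N && decide (l.Pairwise fun x y => Nat.Coprime x.1 y.1)

theorem pow_dvd_of_dvd_prod {p k : ℕ} (hp : p.Prime) (l : List (ℕ × ℕ))
    (hl : l.Pairwise fun x y => Nat.Coprime x.1 y.1)
    (hd : p ^ k ∣ (l.map fun x => x.1 ^ x.2).prod) (hk : k ≠ 0) :
    ∃ x ∈ l, p ^ k ∣ x.1 ^ x.2 := by
  induction l with
  | nil =>
    exfalso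
    simp only [List.map_nil, List.prod_nil, Nat.dvd_one, Nat.pow_eq_one] at hd
    rcases hd with h | h
    · exact hp.one_lt.ne' h
    · exact hk h
  | cons x l ih =>
    rw [List.map_cons, List.prod_cons] at hd
    rw [List.pairwise_cons] at hl
    by_cases hpx : p ∣ x.1
    · have hcop : Nat.Coprime (p ^ k) (l.map fun y => y.1 ^ y.2).prod := by
        apply Nat.Coprime.pow_left
        rw [hp.coprime_iff_not_dvd]
        intro h
        obtain ⟨a, ha, hpa⟩ := (Prime.dvd_prod_iff hp.prime).1 h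
        obtain ⟨y, hy, rfl⟩ := List.mem_map.1 ha
        have h1 : p ∣ y.1 := hp.dvd_of_dvd_pow hpa
        have h2 := hl.1 y hy
        exact hp.one_lt.ne' (Nat.dvd_one.1 (h2 ▸ Nat.dvd_gcd hpx h1))
      exact ⟨x, List.mem_cons_self, hcop.dvd_of_dvd_mul_right hd⟩
    · have hcop : Nat.Coprime (p ^ k) (x.1 ^ x.2) := by
        apply Nat.Coprime.pow
        exact (hp.coprime_iff_not_dvd).2 hpx
      obtain ⟨y, hy, h⟩ := ih hl.2 (hcop.dvd_of_dvd_mul_left hd)
      exact ⟨y, List.mem_cons_of_mem _ hy, h⟩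

/-- The test proves `Good N`. -/
theorem good_of_chk {l : List (ℕ × ℕ)} {N : ℕ} (h : chk l N = true) : Good N := by
  unfold chk at h
  simp only [Bool.and_eq_true, Nat.beq_eq, List.all_eq_true, Nat.blt_eq,
    decide_eq_true_eq] at h
  obtain ⟨⟨⟨h1, h2⟩, h3⟩, h4⟩ := h
  refine good_of_dvd fun p k hp hd => ?_
  rcases Nat.eq_zero_or_pos k with rfl | hk
  · simpa using h3
  · rw [← h1] at hd
    obtain ⟨x, hx, hdx⟩ := pow_dvd_of_dvd_prod hp l h4 hd hk.ne'
    have hpos : 0 < x.1 ^ x.2 := by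
      rcases Nat.eq_zero_or_pos (x.1 ^ x.2) with h0 | h0
      · exfalso
        have : (l.map fun x => x.1 ^ x.2).prod = 0 := by
          rw [List.prod_eq_zero_iff]
          exact List.mem_map.2 ⟨x, hx, h0⟩
        omega
      · exact h0
    exact lt_of_le_of_lt (Nat.pow_le_pow_left (Nat.le_of_dvd hpos hdx) 2) (h2 x hx)

end Cfsg.Agent.H678
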