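import Cfsg.Agent.H678.Codeg
import Cfsg.Agent.H678.GoodDef
import Cfsg.Agent.Lib.ComponentSolvable

/-!
# Quasisimple groups have no nonprincipal irreducible character of prime power codegree

`not_isPrimePow` : the statement, given FACT A (`Good`) for the simple quotient.
-/

set_option autoImplicit false
set_option linter.unusedSectionVars false

namespace Cfsg.Agent.H678.Quasi

open Cfsg Cfsg.Agent.Characters Cfsg.Agent.H686.CharKit Cfsg.Agent.H678.Codeg

universe u

variable {G : Type u} [Group G] [Finite G]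

/-- The arithmetic. -/
theorem arith {s z c d p k : ℕ} (hA : Good s) (hp : p.Prime) (hc : c = p ^ k) (hcd : c * d = s * z)
    (hd : d ^ 2 ≤ s) (hs : 0 < s) (hz : 0 < z) : False := by
  have h1 : s * z ^ 2 ≤ c ^ 2 := by
    have h2 : s * (s * z ^ 2) ≤ s * c ^ 2 := by
      calc s * (s * z ^ 2) = (s * z) ^ 2 := by ring
        _ = (c * d) ^ 2 := by rw [hcd]
        _ = c ^ 2 * d ^ 2 := by ring
        _ ≤ c ^ 2 * s := Nat.mul_le_mul_left _ hd
        _ = s * c ^ 2 := by ring
    exact Nat.le_of_mul_le_mul_left h2 hs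
  have h3 : c ≤ p ^ s.factorization p * z := by
    have h4 : p ^ k ∣ s * z := ⟨d, by rw [← hc, hcd]⟩
    have h5 := (hp.pow_dvd_iff_le_factorization (Nat.mul_pos hs hz).ne').1 h4
    rw [Nat.factorization_mul hs.ne' hz.ne', Finsupp.add_apply] at h5
    rw [hc]
    calc p ^ k ≤ p ^ (s.factorization p + z.factorization p) := Nat.pow_le_pow_right hp.pos h5
      _ = p ^ s.factorization p * p ^ z.factorization p := pow_add _ _ _
      _ ≤ _ := Nat.mul_le_mul_left _ (Nat.le_of_dvd hz (Nat.ordProj_dvd z p))
  have h6 : s * z ^ 2 ≤ (p ^ s.factorization p) ^ 2 * z ^ 2 := by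
    calc s * z ^ 2 ≤ c ^ 2 := h1
      _ ≤ (p ^ s.factorization p * z) ^ 2 := Nat.pow_le_pow_left h3 2
      _ = _ := by ring
  have h7 := Nat.le_of_mul_le_mul_right h6 (by positivity)
  exact absurd (hA p hp) (not_lt.2 h7)

theorem not_isPrimePow (hG : IsQuasisimple G) (hA : Good (Nat.card (G ⧸ Subgroup.center G)))
    (χ : IrrCharacter G) (hχ : (χ : G → ℂ) ≠ 1) :
    ¬ IsPrimePow (Nat.card G / (Nat.card {g : G // (χ : G → ℂ) g = (χ : G → ℂ) 1} *
      charDegree (χ : G → ℂ))) := by
  intro hpp
  obtain ⟨p, k, hp, -, hk⟩ := (isPrimePow_nat_iff _).1 hpp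
  have hK : chKer χ ≤ Subgroup.center G := by
    rcases Lib.ComponentSolvable.quasisimple_normal_cases hG (chKer_normal χ) with h | h
    · exact absurd ((chKer_eq_top_iff χ).1 h) hχ
    · exact h
  have h1 := codeg_mul_degree χ
  rw [← Subgroup.relIndex_mul_index hK, mul_comm ((chKer χ).relIndex _)] at h1
  refine arith hA hp hk.symm h1 ?_ Nat.card_pos ?_
  · exact sq_charDegree_le_index_center χ
  · exact Nat.pos_of_ne_zero Subgroup.index_ne_zero_of_finite

/-- A quasisimple group has nonabelian simple quotient by the center. -/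
theorem not_comm_of_isQuasisimple {G : Type u} [Group G] (hG : IsQuasisimple G) :
    ¬ ∀ a b : G ⧸ Subgroup.center G, a * b = b * a := by
  intro hab
  have hs := hG.2
  have h1 : commutator G ≤ Subgroup.center G := by
    rw [commutator_def, Subgroup.commutator_le]
    intro a _ b _
    rw [← QuotientGroup.eq_one_iff, commutatorElement_def, QuotientGroup.mk_mul,
      QuotientGroup.mk_mul, QuotientGroup.mk_mul, QuotientGroup.mk_inv, QuotientGroup.mk_inv,
      hab (a : G ⧸ Subgroup.center G) b]
    group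
  have h2 : commutator G = ⊤ := hG.1.commutator_eq_top
  rw [h2] at h1
  have h3 : Subsingleton (G ⧸ Subgroup.center G) := by
    rw [top_le_iff] at h1
    rw [h1]
    exact QuotientGroup.subsingleton_quotient_top
  exact not_nontrivial _ hs.toNontrivial

end Cfsg.Agent.H678.Quasi
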